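import Groth.Agent.MilnorLib.Flat
import Groth.Agent.MilnorLib.Basic
import Groth.Agent.FEtHom.Affine
import Groth.Agent.FerrandPush.Algebra
import Mathlib.RingTheory.Kaehler.TensorProduct
import Mathlib.RingTheory.Finiteness.ModuleFinitePresentation
/-!
Being finite étale is local for Milnor squares.
-/

set_option autoImplicit false
set_option backward.isDefEq.respectTransparency false

universe u

open CategoryTheory CategoryTheory.Limits AlgebraicGeometry TensorProduct

namespace Groth.Agent.PushoutFEt

theorem tensor_props_of_isPushout {R R' B P : CommRingCat.{u}} {t : R ⟶ R'} {g : R ⟶ B} {a : R' ⟶ P}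
    {b : B ⟶ P} (h : IsPushout t g a b) (h1 : a.hom.Finite) (h2 : a.hom.Etale) :
    letI := t.hom.toAlgebra
    letI := g.hom.toAlgebra
    Module.Finite R' (R' ⊗[R] B) ∧ Algebra.Etale R' (R' ⊗[R] B) := by
  letI : Algebra R R' := t.hom.toAlgebra
  letI : Algebra R B := g.hom.toAlgebra
  let Q := CommRingCat.isPushout_tensorProduct R R' B
  let e := (h.isoPushout ≪≫ Q.isoPushout.symm)
  have he : a ≫ e.hom = CommRingCat.ofHom Algebra.TensorProduct.includeLeftRingHom := by
    simp [e, Q]
  have this' : algebraMap R' (R' ⊗[R] B) = e.hom.hom.comp a.hom := by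
    show (CommRingCat.ofHom (Algebra.TensorProduct.includeLeftRingHom (R := R) (A := R') (B := B))).hom = _
    rw [← he]; rfl
  constructor
  · rw [← RingHom.finite_algebraMap, this']
    exact RingHom.Finite.comp (RingHom.Finite.of_surjective _
      (ConcreteCategory.bijective_of_isIso e.hom).surjective) h1
  · rw [← RingHom.etale_algebraMap, this']
    exact RingHom.Etale.respectsIso.left _ e.commRingCatIsoToRingEquiv h2

attribute [local instance] Algebra.TensorProduct.rightAlgebra in
/-- An algebra over the corner of a Milnor square whose two pullbacks are finite étale is finite étale. -/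
theorem finite_etale_of_cart {C B A' A : Type u} [CommRing C] [CommRing B] [CommRing A'] [CommRing A]
    (D : FerrandPush.Cart C B A' A) {S PB PA : CommRingCat.{u}} (φ : CommRingCat.of C ⟶ S)
    {tB : CommRingCat.of B ⟶ PB} {uB : S ⟶ PB} (hB : IsPushout (CommRingCat.ofHom D.fst) φ tB uB)
    (hB1 : tB.hom.Finite) (hB2 : tB.hom.Etale)
    {tA : CommRingCat.of A' ⟶ PA} {uA : S ⟶ PA} (hA : IsPushout (CommRingCat.ofHom D.snd) φ tA uA)
    (hA1 : tA.hom.Finite) (hA2 : tA.hom.Etale) :
    φ.hom.Finite ∧ φ.hom.Etale := by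
  obtain ⟨fB, eB⟩ := tensor_props_of_isPushout hB hB1 hB2
  obtain ⟨fA, eA⟩ := tensor_props_of_isPushout hA hA1 hA2
  letI : Algebra C B := D.fst.toAlgebra
  letI : Algebra C A' := D.snd.toAlgebra
  letI : Algebra B A := D.q.toAlgebra
  letI : Algebra A' A := D.p.toAlgebra
  letI : Algebra C A := (D.q.comp D.fst).toAlgebra
  haveI : IsScalarTower C B A := .of_algebraMap_eq fun _ => rfl
  haveI : IsScalarTower C A' A := .of_algebraMap_eq fun c => D.w c
  have hsq : EtMil.IsFibreSquare C B A' A :=
    ⟨D.surj, fun b a h => by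
      obtain ⟨c, hc1, hc2⟩ := D.lift' b a h
      exact ⟨c, ⟨hc1, hc2⟩, fun c' hc' => D.ext' _ _ (hc'.1.trans hc1.symm) (hc'.2.trans hc2.symm)⟩⟩
  letI : Algebra C S := φ.hom.toAlgebra
  haveI : Module.Finite B (B ⊗[C] S) := fB
  haveI : Algebra.Etale B (B ⊗[C] S) := eB
  haveI : Module.Finite A' (A' ⊗[C] S) := fA
  haveI : Algebra.Etale A' (A' ⊗[C] S) := eA
  haveI : Module.FinitePresentation B (B ⊗[C] S) :=
    Module.FinitePresentation.of_finite_of_finitePresentation B _
  haveI : Module.FinitePresentation A' (A' ⊗[C] S) :=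
    Module.FinitePresentation.of_finite_of_finitePresentation A' _
  haveI hfin : Module.Finite C S := MilnorLib.finite hsq S
  haveI : Module.Flat C S := MilnorLib.flat S hsq
  haveI : Module.FinitePresentation C S := MilnorLib.finitePresentation hsq S
  haveI : Algebra.FinitePresentation C S := Algebra.FinitePresentation.of_finitePresentation C S
  haveI : Algebra.FormallyUnramified C S := by
    haveI : Subsingleton (B ⊗[C] Ω[S⁄C]) :=
      (KaehlerDifferential.tensorKaehlerEquivBase C B S (B ⊗[C] S)).toEquiv.subsingleton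
    haveI : Subsingleton (A' ⊗[C] Ω[S⁄C]) :=
      (KaehlerDifferential.tensorKaehlerEquivBase C A' S (A' ⊗[C] S)).toEquiv.subsingleton
    exact ⟨MilnorLib.subsingleton hsq⟩
  refine ⟨hfin, ?_⟩
  haveI : Flat (Spec.map φ) := Flat.SpecMap_iff.mpr (inferInstanceAs (Module.Flat C S))
  haveI : FormallyUnramified (Spec.map φ) :=
    (HasRingHomProperty.Spec_iff (P := @FormallyUnramified)).mpr (inferInstanceAs (Algebra.FormallyUnramified C S))
  haveI : LocallyOfFinitePresentation (Spec.map φ) :=
    (HasRingHomProperty.Spec_iff (P := @LocallyOfFinitePresentation)).mpr (inferInstanceAs (Algebra.FinitePresentation C S))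
  exact (HasRingHomProperty.Spec_iff (P := @Etale)).mp ((FEtHom.etale_iff _).mpr ⟨inferInstance, FEtHom.of_flat_unramified _⟩)

end Groth.Agent.PushoutFEt
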