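import Groth.Prelude.Def_FEt
import Groth.Agent.PushoutFEt.Alg
import Groth.Agent.FerrandPush.BaseChange
import Groth.Agent.S1465
import Mathlib.AlgebraicGeometry.Morphisms.Integral
import Mathlib.AlgebraicGeometry.ZariskisMainTheorem
/-!
Finite étale covers descend to a pushout along a closed immersion and an integral morphism.
-/

set_option autoImplicit false
set_option backward.isDefEq.respectTransparency false
set_option linter.style.haveILetI false

universe u

open CategoryTheory CategoryTheory.Limits AlgebraicGeometry TensorProduct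

namespace Groth.Agent.PushoutFEt

/-- The ring version of a base change of `Spec φ` being finite étale. -/
theorem includeLeft_props {C B S : CommRingCat.{u}} (f : C ⟶ B) (φ : C ⟶ S)
    (h : FEt.prop.{u} (pullback.fst (Spec.map f) (Spec.map φ))) :
    ∃ (P : CommRingCat.{u}) (t : B ⟶ P) (v : S ⟶ P),
      IsPushout f φ t v ∧ t.hom.Finite ∧ t.hom.Etale := by
  letI := f.hom.toAlgebra
  letI := φ.hom.toAlgebra
  refine ⟨_, _, _, CommRingCat.isPushout_tensorProduct C B S, ?_⟩
  have h' : FEt.prop.{u} (Spec.map (CommRingCat.ofHom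
      (Algebra.TensorProduct.includeLeftRingHom (R := C) (A := B) (B := S)))) := by
    rw [← pullbackSpecIso_inv_fst C B S]
    exact (MorphismProperty.cancel_left_of_respectsIso FEt.prop.{u} (pullbackSpecIso C B S).inv _).mpr h
  exact ⟨(IsFinite.SpecMap_iff _).mp h'.1, (HasRingHomProperty.Spec_iff (P := @Etale)).mp h'.2⟩

/-- A morphism with affine source to the glued scheme, finite étale over both pieces, is finite étale. -/
theorem prop_local {X Y Z W W' : Scheme.{u}} {i : Z ⟶ X} {j : Z ⟶ Y} [IsClosedImmersion i]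
    [IsAffineHom j] {a : X ⟶ W} {b : Y ⟶ W} [IsAffineHom a] [IsAffineHom b]
    (hpo : IsPushout i j a b) (k : W' ⟶ W) [IsAffineHom k]
    {X' Y' : Scheme.{u}} {f : X' ⟶ X} {g : Y' ⟶ Y} {a' : X' ⟶ W'} {b' : Y' ⟶ W'}
    (hf : IsPullback f a' a k) (hg : IsPullback g b' b k)
    (hf' : FEt.prop.{u} f) (hg' : FEt.prop.{u} g) : FEt.prop.{u} k := by
  suffices h : ∀ O : W.affineOpens, FEt.prop.{u} (k ∣_ O.1) from
    ⟨IsZariskiLocalAtTarget.of_iSup_eq_top (P := @AlgebraicGeometry.IsFinite) (fun O : W.affineOpens => O.1)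
        (iSup_affineOpens_eq_top W) fun O => (h O).1,
      IsZariskiLocalAtTarget.of_iSup_eq_top (P := @Etale) (fun O : W.affineOpens => O.1)
        (iSup_affineOpens_eq_top W) fun O => (h O).2⟩
  rintro ⟨O, hO⟩
  obtain ⟨α, ρ, hρ, hρO, hA, hB⟩ := FerrandPush.exists_cart_of_affineOpen hpo hO
  have hO' : ρ.opensRange = O := TopologicalSpace.Opens.ext hρO
  subst hO'
  show FEt.prop.{u} (k ∣_ ρ.opensRange)
  let e := (pullback k ρ).isoSpec
  haveI : IsAffine (FerrandPush.Chart.obj α) := inferInstanceAs (IsAffine (Spec _))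
  haveI : IsAffine (pullback k ρ) := isAffine_of_isAffineHom (pullback.snd k ρ)
  let φ : CommRingCat.of α.subring ⟶ Γ(pullback k ρ, ⊤) :=
    Spec.preimage ((pullback k ρ).isoSpec.inv ≫ pullback.snd k ρ)
  have hφ : Spec.map φ = (pullback k ρ).isoSpec.inv ≫ pullback.snd k ρ := Spec.map_preimage _
  have sq : IsPullback ((pullback k ρ).isoSpec.inv ≫ pullback.fst k ρ) (Spec.map φ) k ρ :=
    (IsPullback.of_hasPullback k ρ).of_iso (pullback k ρ).isoSpec (Iso.refl _) (Iso.refl _) (Iso.refl _)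
      (by simp) (by simp [hφ]) (by simp) (by simp)
  have leg : ∀ {V V' : Scheme.{u}} {v : V ⟶ W} {p : V' ⟶ V} {v' : V' ⟶ W'}
      (_ : IsPullback p v' v k) (_ : FEt.prop.{u} p) {R : CommRingCat.{u}}
      (m : CommRingCat.of α.subring ⟶ R) (n : Spec R ⟶ V) (_ : Spec.map m ≫ ρ = n ≫ v),
      FEt.prop.{u} (pullback.fst (Spec.map m) (Spec.map φ)) := by
    intro V V' v p v' hp hp' R m n hn
    have big := (IsPullback.of_hasPullback (Spec.map m) (Spec.map φ)).paste_vert sq.flip
    rw [hn] at big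
    have sm := IsPullback.of_bot' big hp
    exact MorphismProperty.of_isPullback sm.flip hp'
  obtain ⟨PA, tA, uA, hpA, hA1, hA2⟩ := includeLeft_props (CommRingCat.ofHom α.cart.snd) φ
    (leg hf hf' _ α.hU.fromSpec hA.w)
  obtain ⟨PB, tB, uB, hpB, hB1, hB2⟩ := includeLeft_props (CommRingCat.ofHom α.cart.fst) φ
    (leg hg hg' _ α.hV.fromSpec hB.w)
  obtain ⟨h1, h2⟩ := finite_etale_of_cart α.cart φ hpB hB1 hB2 hpA hA1 hA2
  have hs : FEt.prop.{u} (Spec.map φ) :=
    ⟨(IsFinite.SpecMap_iff _).mpr h1, (HasRingHomProperty.Spec_iff (P := @Etale)).mpr h2⟩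
  rw [hφ, MorphismProperty.cancel_left_of_respectsIso FEt.prop.{u}] at hs
  exact (MorphismProperty.arrow_mk_iso_iff FEt.prop.{u} (morphismRestrictOpensRange k ρ)).mpr hs

theorem descends {Z X Y W : Scheme.{u}} (i : Z ⟶ X) [IsClosedImmersion i] (j : Z ⟶ Y) [IsIntegralHom j]
    (h3 : ∀ y : Y, ∃ U : X.Opens, IsAffineOpen U ∧ ∀ z : Z, j.base z = y → i.base z ∈ U)
    (a : X ⟶ W) (b : Y ⟶ W) (hpo : IsPushout i j a b)
    (U : FEt.Cat X) (V : FEt.Cat Y) (e : (FEt.restrict i).obj U ≅ (FEt.restrict j).obj V) :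
    ∃ T : FEt.Cat W, Nonempty ((FEt.restrict a).obj T ≅ U) ∧ Nonempty ((FEt.restrict b).obj T ≅ V) := by
  have h3' : ∀ y : Y, ∃ U : X.Opens, IsAffineOpen U ∧ j ⁻¹' {y} ⊆ (i ⁻¹ᵁ U : Set ↑Z) := fun y => by
    obtain ⟨U, hU, h⟩ := h3 y
    exact ⟨U, hU, fun z hz => h z hz⟩
  haveI := U.prop.1; haveI := U.prop.2; haveI := V.prop.1; haveI := V.prop.2
  let Z₁ := pullback U.hom i
  let eL : Z₁ ⟶ pullback V.hom j := e.hom.left
  haveI : IsIso eL := inferInstanceAs (IsIso ((MorphismProperty.Over.forget _ _ _ ⋙ Over.forget _).map e.hom))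
  have hw : eL ≫ pullback.snd V.hom j = pullback.snd U.hom i := Over.w e.hom.hom
  have hX : IsPullback (pullback.snd U.hom i) (pullback.fst U.hom i) i U.hom :=
    (IsPullback.of_hasPullback U.hom i).flip
  have hY : IsPullback (pullback.snd U.hom i) (eL ≫ pullback.fst V.hom j) j V.hom :=
    (IsPullback.of_hasPullback V.hom j).flip.of_iso (asIso eL).symm (Iso.refl _) (Iso.refl _) (Iso.refl _)
      (by simp [hw]) (by simp) (by simp) (by simp)
  obtain ⟨W₁, W', a₁, b₁, a', b', k, hP, hP', -, -, hsep, hqf, hft, hgY, hfX⟩ :=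
    S1465.result i j h3' (pullback.fst U.hom i) (eL ≫ pullback.fst V.hom j) U.hom V.hom
      (pullback.snd U.hom i) hX hY
  let ε := hP.flip.isoIsPushout _ _ hpo
  have eb : b₁ ≫ ε.hom = a := hP.flip.inl_isoIsPushout_hom _ _ hpo
  have ea : a₁ ≫ ε.hom = b := hP.flip.inr_isoIsPushout_hom _ _ hpo
  let k' : W' ⟶ W := k ≫ ε.hom
  have hXk : IsPullback U.hom b' a k' :=
    hfX.of_iso (Iso.refl _) (Iso.refl _) (Iso.refl _) ε (by simp) (by simp) (by simp [eb]) (by simp [k'])
  have hYk : IsPullback V.hom a' b k' :=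
    hgY.of_iso (Iso.refl _) (Iso.refl _) (Iso.refl _) ε (by simp) (by simp) (by simp [ea]) (by simp [k'])
  haveI : IsSeparated k' := inferInstance
  haveI : LocallyQuasiFinite k' := inferInstance
  haveI : LocallyOfFiniteType k' := inferInstance
  obtain ⟨ha1, hb1, -, -⟩ := FerrandPush.props_of_isPushout h3' hpo
  haveI : IsClosedImmersion (pullback.fst U.hom i) := inferInstance
  haveI : IsIntegralHom (eL ≫ pullback.fst V.hom j) :=
    MorphismProperty.of_isPullback hY ‹IsIntegralHom j›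
  obtain ⟨-, -, -, hs'⟩ := FerrandPush.props_of_isPushout
    (FerrandPush.exists_affine_fibre_of_lqf i j h3' U.hom V.hom (pullback.fst U.hom i)
      (eL ≫ pullback.fst V.hom j) (pullback.snd U.hom i) hX.w.symm hY.w.symm) hP'.flip
  haveI hsurj : Surjective (coprod.desc b' a') := ⟨fun p => by
    rcases hs' p with ⟨x, rfl⟩ | ⟨y, rfl⟩
    · exact ⟨(coprod.inl : U.left ⟶ _) x, (Scheme.Hom.comp_apply coprod.inl (coprod.desc b' a') x).symm.trans (by rw [coprod.inl_desc])⟩
    · exact ⟨(coprod.inr : V.left ⟶ _) y, (Scheme.Hom.comp_apply coprod.inr (coprod.desc b' a') y).symm.trans (by rw [coprod.inr_desc])⟩⟩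
  haveI := ha1
  haveI : IsIntegralHom b := inferInstance
  haveI : UniversallyClosed (coprod.desc b' a' ≫ k') := by
    have : coprod.desc b' a' ≫ k' = coprod.desc (U.hom ≫ a) (V.hom ≫ b) := by
      apply coprod.hom_ext <;> simp [hXk.w, hYk.w]
    rw [this]
    haveI : IsIntegralHom (coprod.desc (U.hom ≫ a) (V.hom ≫ b)) := inferInstance
    infer_instance
  haveI : UniversallyClosed k' := UniversallyClosed.of_comp_surjective (coprod.desc b' a') k'
  haveI : IsProper k' := ⟨⟩
  haveI : AlgebraicGeometry.IsFinite k' := IsFinite.of_isProper_of_locallyQuasiFinite k'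
  haveI := hb1
  have hk : FEt.prop.{u} k' := prop_local hpo k' hXk hYk U.prop V.prop
  refine ⟨MorphismProperty.Over.mk ⊤ k' hk, ⟨?_⟩, ⟨?_⟩⟩
  · exact MorphismProperty.Over.isoMk hXk.flip.isoPullback.symm (by
      simp [FEt.restrict, MorphismProperty.Over.pullback]; rfl)
  · exact MorphismProperty.Over.isoMk hYk.flip.isoPullback.symm (by
      simp [FEt.restrict, MorphismProperty.Over.pullback]; rfl)

end Groth.Agent.PushoutFEt
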